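import Cfsg.Agent.Lib.Recog.SporBound.J3TLong.Data

set_option autoImplicit false
set_option maxRecDepth 20000
set_option Elab.async false

/-! Checks of the certificate, part 1. -/

namespace CfsgLib.Recog.SporBound.J3TLong
open CfsgLib.Recog.SporBound
open CfsgLib.ThreeTrans.CosetIndex (forallFrom)

theorem defs4 : forallFrom cert.defOK 6000 1500 = true := by decide +kernel

theorem defs5 : forallFrom cert.defOK 7500 1500 = true := by decide +kernel

theorem defs6 : forallFrom cert.defOK 9000 1500 = true := by decide +kernel

theorem defs7 : forallFrom cert.defOK 10500 1500 = true := by decide +kernel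

end CfsgLib.Recog.SporBound.J3TLong
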