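import Cfsg.Agent.Lib.Recog.SporBound.Sound
import Cfsg.Agent.Lib.Recog.SporBound.J3TLong.Tree0
import Cfsg.Agent.Lib.Recog.SporBound.J3TLong.Tree1
import Cfsg.Agent.Lib.Recog.SporBound.J3TLong.Tree2
import Cfsg.Agent.Lib.Recog.SporBound.J3TLong.Tree3
import Cfsg.Agent.Lib.Recog.SporBound.J3TLong.Tree4
import Cfsg.Agent.Lib.Recog.SporBound.J3TLong.Tree5

set_option autoImplicit false
set_option maxRecDepth 20000

/-! Generated closure certificate: the relation of degree four (owner: helper29) (owner: lead). -/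

namespace CfsgLib.Recog.SporBound.J3TLong
open CfsgLib.Recog.SporBound

noncomputable def factTree : Q (ℕ) := (.node (.node (.node ft6 ft13 ft20 ft26) (.node ft33 ft40 ft46 ft52) (.node ft59 ft66 ft72 ft78) (.node ft85 ft92 ft98 ft104)) (.node (.node ft111 ft118 ft125 ft131) (.node ft138 ft145 ft151 ft157) (.node ft164 ft171 ft177 ft183) (.node ft190 ft197 ft203 ft209)) (.node (.node ft216 ft223 ft230 ft236) (.node ft243 ft250 ft256 ft262) (.node ft269 ft276 ft282 ft288) (.node ft295 ft302 ft308 ft314)) (.node (.node ft321 ft328 ft334 ft340) (.node ft347 ft354 ft360 ft366) (.node ft373 ft380 ft386 ft392) (.node ft399 ft406 ft412 ft418)))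
noncomputable def nodeTree : Q (ℕ) := ct0
noncomputable def stepTree : Q (List ℕ) := (.node (.node (.node st7 st15 st22 st29) (.node st37 st45 st52 st59) (.node st67 st75 st82 st89) (.node st97 st105 st112 st119)) (.node (.node st127 st135 st142 st149) (.node st157 st165 st172 st179) (.node st187 st195 st202 st209) (.node st217 st225 st232 st239)) (.node (.node st247 st255 st262 st269) (.node st277 st285 st292 st299) (.node st307 st315 st322 st329) (.node st337 st345 st352 st359)) (.node (.node st367 st375 st382 st389) (.node st397 st405 st412 st419) (.node st427 st435 st442 st449) (.node st457 st465 st472 st479)))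
noncomputable def finalTree : Q (List ℕ) := et0

/-- The certificate. -/
noncomputable def cert : Cert where
  n := 1
  nd := 18721
  nf := 45342
  kl := [1]
  facts := factTree
  cn := nodeTree
  steps := stepTree
  finals := finalTree
  rels := [[0, 0], [1, 1], [2, 2], [3, 3], [4, 4], [5, 5], [6, 6], [7, 7], [1, 2, 1, 2, 1, 2], [0, 1, 2, 0, 1, 2, 0, 1, 2, 0, 1, 2, 0, 1, 2], [1, 0, 1, 2, 0, 2, 1, 0, 1, 2, 0, 2, 1, 0], [3, 0, 2, 1, 0, 1, 2, 0], [5, 4, 0, 4, 0, 4, 0, 4, 0], [6, 1, 2, 0, 2, 1, 0, 4, 0, 4, 0, 1, 2, 0, 2, 1], [1, 2, 4, 2, 1, 4], [3, 4, 3, 4], [5, 0, 5, 0], [5, 1, 5, 1], [5, 2, 5, 2], [5, 4, 5, 4], [5, 3, 5, 3], [1, 4, 1, 4, 1, 4, 1, 4, 5], [4, 0, 1, 2, 4, 0, 1, 2, 4, 0, 1, 2, 4, 0, 1, 2, 4, 0, 1, 2], [7, 1, 2, 7, 2, 1], [7, 4, 7, 4], [7, 5, 7, 5, 4], [7, 1, 0, 6, 1, 0, 7, 0, 1, 6, 0, 1], [7, 3, 7, 6], [7, 1, 4, 1, 7, 1, 4, 1, 7, 1, 4, 1],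 [7, 0, 3, 2, 7, 1, 2, 6], [7, 1, 7, 1, 7, 1, 7, 1, 7, 1, 7, 1, 7, 1, 7, 1, 7, 1, 7, 1], [7, 5, 1, 7, 1, 7, 5, 1, 7, 1, 7, 5, 1, 7, 1, 7, 5, 1, 7, 1], [0, 3, 4, 0, 5, 1, 7, 1, 7, 1, 7, 1, 7, 1, 7, 1, 0, 3, 4, 0, 5, 1, 7, 1, 7, 1, 7, 1, 7, 1, 7, 1, 0, 3, 4, 0, 5, 1, 7, 1, 7, 1, 7, 1, 7, 1, 7, 1]]
  subs := [[7, 1, 7, 1, 7, 1, 7, 1, 7, 1, 7, 1, 7, 1, 7, 1, 7, 1, 7, 1, 5, 1, 7, 1, 7, 1, 7, 1, 7, 1, 7, 1, 7, 1, 7, 1, 7, 1, 7, 1, 7], [7, 1, 7, 1, 7, 1, 7, 1, 7, 1, 7, 1, 7, 1, 7, 1, 7, 1, 7, 1, 1, 1, 7, 1, 7, 1, 7, 1, 7, 1, 7, 1, 7, 1, 7, 1, 7, 1, 7, 1, 7], [7, 1, 7, 1, 7, 1, 7, 1, 7, 1, 7, 1, 7, 1, 7, 1, 7, 1, 7, 1, 0, 4, 0, 1, 7, 1, 7, 1, 7, 1, 7, 1, 7, 1, 7, 1, 7, 1, 7, 1, 7, 1, 7], [7, 1, 7, 1, 7, 1, 7, 1, 7, 1, 7, 1, 7, 1, 7, 1, 7, 1, 7, 1, 0, 3, 0, 1, 7, 1, 7, 1, 7, 1, 7, 1, 7, 1, 7, 1, 7, 1, 7, 1, 7, 1, 7], [7, 1, 7, 1, 7, 1, 7, 1, 7, 1, 7, 1, 7, 1,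 7, 1, 7, 1, 7, 1, 7, 1, 7, 1, 7, 1, 7, 1, 7, 1, 1, 7, 1, 7, 1, 7, 1, 7, 1, 7, 1, 7, 1, 7, 1, 7, 1, 7, 1, 7]]

/-- Chains of the traced words. -/
noncomputable def closers : List ℕ := [0x49230492100000000010000200003049340000400003000020000100000000160003e050db0033a000c4000c50033e050fd00be10510d00bc90510f00bcc0510c0038e0038c050440036a050940502604c8104bb604c82006050060a010da01e2603121046840b0f40b0f30ae350ae6f0ab530ad70048ac03662036630872a0acb80acb7048b10ad6e0483b0acb80aa410acbb0ab3f0ae750ae780b11d0452b02ec601bb101bad0708d01bad01bb102ec60452b0b11d0ae750acc60ac5f0acbb0aaf10acb80acb7048b10872a0ad13048ab0ad6f0acd30aaf70ab6b0ad140ab5c0ab530ae6f0ae350ae3e0b0790b0f60452e0b0f80aef9046860312201e2705a23006a204c7c0041a04c7b04c75050440038c0510e00bcb0510c050e100be0050f100bf20033e000c5000c4049ab050d7000f50003e000160007d00000]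

end CfsgLib.Recog.SporBound.J3TLong
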